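import Cfsg.Agent.Lib.InvChar.SporData.J2A.PermData

set_option autoImplicit false
set_option maxRecDepth 100000

namespace CfsgLib.InvChar.Coset.J2A

theorem orbit1_ok : ∀ j < 63, Table.OrbitOK tab1 [[0], [1], [2], [3], [4], [5]] orb1Pts orb1Pos orb1Par 63 j :=
  fun j hj => Table.chkOrbit_get tab1 [[0], [1], [2], [3], [4], [5]] orb1Pts orb1Pos orb1Par 63 63 0 (by decide +kernel) j (Nat.zero_le j) (by omega)

theorem base1 : field orb1Pts 128 20 0 = 1 := by decide +kernel

theorem derived2 : tab1.chkDerived tab2 words2 100 0 = true := by decide +kernel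

end CfsgLib.InvChar.Coset.J2A
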