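import Cfsg.Agent.Lib.InvChar.SporData.J2A.PermData

set_option autoImplicit false
set_option maxRecDepth 100000

namespace CfsgLib.InvChar.Coset.J2A

theorem chk_points0 : table.chkPoints rels 100 0 = true := by decide +kernel

theorem valid : table.Valid rels := by
  have key : ∀ i < 100, (∀ x < table.g, table.app i x < table.n) ∧ ∀ L ∈ rels, table.follow L i = i := by
    intro i hi
    rcases Nat.lt_or_ge i 100 with h0 | h0
    · exact table.chkPoints_get rels 100 0 chk_points0 i (by omega) (by omega)
    omega
  exact ⟨fun i hi => (key i hi).1, fun i hi => (key i hi).2⟩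

end CfsgLib.InvChar.Coset.J2A
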