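import Cfsg.Agent.Lib.InvChar.SporData.J2A.Data
import Cfsg.Agent.Lib.InvChar.CosetPerm

set_option autoImplicit false
set_option maxRecDepth 100000

namespace CfsgLib.InvChar.Coset.J2A

/-- words of prime order -/
def seedWords : List (List ℕ) := [[2, 4, 2, 4, 2, 4, 2, 4, 2, 4], [4, 2, 0, 4, 2, 0, 4, 2, 0, 4, 2, 0, 4, 2, 0]]
/-- the seed letter -/
def seedLetter : ℕ := 0
/-- the first factor of the seed -/
def seedU : List ℕ := [2, 4]
theorem chk_seeds : table.chkPoints seedWords 100 0 = true := by decide +kernel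

theorem seeds_fix : ∀ i < 100, ∀ L ∈ seedWords, table.follow L i = i := fun i hi =>
  (table.chkPoints_get seedWords 100 0 chk_seeds i (Nat.zero_le i) (by omega)).2

end CfsgLib.InvChar.Coset.J2A
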