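import Cfsg.Agent.Lib.InvChar.SporData.J2A.Data
import Cfsg.Agent.Lib.InvChar.CosetPerm

set_option autoImplicit false
set_option maxRecDepth 100000

namespace CfsgLib.InvChar.Coset.J2A

/-- points -/
noncomputable def sub0Pts : Tr := (.leaf 0x50000550005400060000560004b00036000290004100017000520003700009000160005700033000510001800011000220004c000350004d00046000440003400042000190003c0003b0003900038000320002a0002d0002c0002b0002800027000250002400023000210001d0001b0001a000150001300012000100000f0000e0000c0000b0000a0000800007000060000500004000030000200001)
/-- positions -/
noncomputable def sub0Pos : Tr := (.leaf 0x3c0000000000000000000000000000000000000000000310003b0003e0003d00000000350002f0003f0000000000000290002b0003a0000000000000000000000028000000002700000000250003700000000000000000000000230002200000000210002000034000390002a00026000300001f000000000000000000000001d0001c0001b0001e000380001a00019000000001800017000160002c0001500000000000000000014000000001300012000240002e00036000320001100000000100000f0002d0000e0000d0000c000000000b0000a0000900033000080000700006000050000400003000020000100000)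
/-- parents -/
noncomputable def sub0Par : Tr := (.leaf 0xe8000003800c000e00000034004000cc0100030004000b4010002c004000ac01000290000009403000240080008c030002300000080000001f00000078030001e00000074020001c0000006c000001a0080006801000170040005803000160000005403000150080004c01000130000004802000110080004002000100000003c020000f00400038030000d00800034010000c00c00030020000c0000002c000000a0080002003000080040001c010000600c00018000000500c0001401000040080000c03000030040000c000000200c0000801000020000000403000010080000002000000040000000)
theorem sub0_ok : ∀ j < 63, Table.OrbitOK table subs sub0Pts sub0Pos sub0Par 63 j :=
  fun j hj => Table.chkOrbit_get table subs sub0Pts sub0Pos sub0Par 63 63 0 (by decide +kernel) j (Nat.zero_le j) (by omega)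

theorem sub0_root : field sub0Pts 128 20 0 = 1 := by decide +kernel

/-- points -/
noncomputable def sub1Pts : Tr := (.leaf 0x530006300061000490005c0004a0005f00043000450005a0005b0005e0005d00026000470004f00059000620004e00048000310002f0003d0005800030000400003f0002e0003e000140001e0003a000200001f0001c0000d)
/-- positions -/
noncomputable def sub1Pos : Tr := (.leaf 0x230001300022000000001e0001900018000200001a0001b000140000d000000000000000000000002400000000000000000015000120000000000000000001f000210001100016000000001c000000001d00000000000000b0000a000080000e0000000000000050000000000000000000000000000000000000000000100000c0000f0000900000000000000000000000000000000000000170000000000000000000000000000040000300006000000000200000000000000000000000000000000000000070000000000000000000000000000000000100000000000000000000000000000000000000000000000000000000000000000)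
/-- parents -/
noncomputable def sub1Par : Tr := (.leaf 0x1a00c0005c030001700400058020001500800054000001400800050010001300c0004c000001200800044010001000800040010000f00400038000000d0080003000000080080001c000000600c0001801000050040001001000040000000c020000300400008030000200400008000000100c00004020000000c0000002000000000000000)
theorem sub1_ok : ∀ j < 36, Table.OrbitOK table subs sub1Pts sub1Pos sub1Par 36 j :=
  fun j hj => Table.chkOrbit_get table subs sub1Pts sub1Pos sub1Par 36 36 0 (by decide +kernel) j (Nat.zero_le j) (by omega)

theorem sub1_root : field sub1Pts 128 20 0 = 13 := by decide +kernel

end CfsgLib.InvChar.Coset.J2A
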